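import Cfsg.Agent.Base
import Cfsg.Agent.Lib.Char.Brauer
import Cfsg.Agent.Lib.Char.Clifford
import Cfsg.Agent.Lib.Char.More

/-!
Nilpotent groups are monomial; the induction theorems of Brauer and Artin.
-/

set_option autoImplicit false

namespace H8

open Cfsg

universe u

theorem card_lt_of_ne_top {G : Type*} [Group G] [Finite G] {T : Subgroup G} (h : T ≠ ⊤) :
    Nat.card T < Nat.card G :=
  lt_of_le_of_ne T.card_le_card_group fun e => h (Subgroup.eq_top_of_card_eq T e)

/-- a nonabelian nilpotent group has an abelian normal subgroup that is not central -/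
theorem exists_normal_comm_not_central {G : Type*} [Group G] [hG : Group.IsNilpotent G]
    (h : ¬ ∀ a b : G, a * b = b * a) :
    ∃ N : Subgroup G, N.Normal ∧ (∀ a ∈ N, ∀ b ∈ N, a * b = b * a) ∧
      ∃ x ∈ N, x ∉ Subgroup.center G := by
  have h1 : ¬ Subgroup.upperCentralSeries G 2 ≤ Subgroup.upperCentralSeries G 1 := by
    intro hle
    have h2 : ∀ n, Subgroup.upperCentralSeries G n ≤ Subgroup.upperCentralSeries G 1 := by
      intro n
      induction n with
      | zero => simp
      | succ n ih =>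
        refine le_trans (fun x hx => ?_) hle
        rw [Subgroup.mem_upperCentralSeries_succ_iff] at hx ⊢
        exact fun y => ih (hx y)
    obtain ⟨n, hn⟩ := hG.nilpotent
    refine h fun a b => ?_
    have := h2 n (hn ▸ Subgroup.mem_top b)
    rw [Subgroup.upperCentralSeries_one, Subgroup.mem_center_iff] at this
    exact this a
  obtain ⟨x, hx, hx'⟩ := SetLike.not_le_iff_exists.1 h1
  rw [Subgroup.upperCentralSeries_one] at hx'
  have hxx : x ∈ Subgroup.centralizer ({x} : Set G) := by
    simp [Subgroup.mem_centralizer_iff]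
  refine ⟨Subgroup.upperCentralSeries G 2 ⊓
    Subgroup.centralizer (Subgroup.centralizer ({x} : Set G) : Set G), ⟨fun n hn g => ?_⟩,
    fun a ha b hb => ?_, x, ⟨hx, fun y hy => ?_⟩, hx'⟩
  · refine ⟨Subgroup.Normal.conj_mem inferInstance _ hn.1 g, ?_⟩
    have h3 := (Subgroup.mem_upperCentralSeries_succ_iff.1 hn.1) g
    rw [Subgroup.upperCentralSeries_one] at h3
    have h4 : g * n * g⁻¹ = (n * g * n⁻¹ * g⁻¹)⁻¹ * n := by group
    rw [h4]
    exact Subgroup.mul_mem _ (Subgroup.inv_mem _ (Subgroup.center_le_centralizer _ h3)) hn.2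
  · refine (ha.2 b fun y hy => ?_).symm
    rw [Set.mem_singleton_iff.1 hy]
    exact hb.2 x hxx
  · exact (hy x rfl).symm

theorem exists_ind_hom_aux (n : ℕ) : ∀ (G : Type u) [Group G] [Fintype G] [Group.IsNilpotent G],
    Nat.card G = n → ∀ χ : G → ℂ, IsIrrCharacter G χ →
      ∃ (H : Subgroup G) (lam : H →* ℂˣ), χ = indFun H (fun h => (lam h : ℂ)) := by
  classical
  induction n using Nat.strong_induction_on with
  | _ n ih =>
  intro G _ _ _ hn χ hχ
  have hc := H6.irr_isCharacter hχ
  by_cases hK : H6.charKer χ = ⊥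
  · by_cases hab : ∀ a b : G, a * b = b * a
    · obtain ⟨lam, rfl⟩ := H6.irr_eq_hom_of_comm hab hχ
      refine ⟨⊤, lam.comp (⊤ : Subgroup G).subtype, funext fun g => ?_⟩
      rw [H7.indFun_top (H7.isClassFunction_hom _)]
      rfl
    obtain ⟨N, hN, hNc, x, hx, hxZ⟩ := exists_normal_comm_not_central hab
    rcases H7.homogeneous_or_induced N hχ with ⟨θ, e, hθ, -, h⟩ | ⟨T, ψ, -, hT, hψ, rfl⟩
    · exfalso
      obtain ⟨lam, rfl⟩ := H6.irr_eq_hom_of_comm (fun a b => Subtype.ext (hNc a a.2 b b.2)) hθ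
      have h1 := congrFun h ⟨x, hx⟩
      have h2 := congrFun h 1
      simp only [Pi.smul_apply, smul_eq_mul, OneMemClass.coe_one, map_one, Units.val_one] at h1 h2
      have h3 : ‖(lam ⟨x, hx⟩ : ℂ)‖ = 1 :=
        norm_eq_one_of_pow_eq_one (n := Nat.card N) Nat.card_pos (by
          rw [← Units.val_pow_eq_pow_val, ← map_pow, pow_card_eq_one', map_one, Units.val_one])
      obtain ⟨ω, hω⟩ := H6.char_mul_of_norm_eq hc (g := x) (by
        rw [h1, h2, norm_mul, norm_mul, h3, norm_one])
      refine hxZ (Subgroup.mem_center_iff.2 fun g => ?_)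
      have h4 : x * (g * x⁻¹ * g⁻¹) ∈ H6.charKer χ := by
        rw [H6.mem_charKer hc, hω, H6.char_isClassFunction hc, ← hω, mul_inv_cancel]
      rw [hK, Subgroup.mem_bot] at h4
      calc g * x = x * (g * x⁻¹ * g⁻¹) * (g * x) := by rw [h4, one_mul]
        _ = x * g := by group
    · obtain ⟨L, lam, rfl⟩ := ih (Nat.card T) (hn ▸ card_lt_of_ne_top hT) T rfl ψ hψ
      exact ⟨L.map T.subtype,
        lam.comp (L.equivMapOfInjective T.subtype T.subtype_injective).symm.toMonoidHom,
        H7.indFun_indFun_map T L _⟩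
  · obtain ⟨ψ, hψ, h⟩ := H6.exists_irr_quotient hχ (H6.charKer χ) fun x hx =>
      (H6.mem_charKer hc).1 hx
    have := Fintype.ofFinite (G ⧸ H6.charKer χ)
    obtain ⟨L, lam, rfl⟩ := ih (Nat.card (G ⧸ H6.charKer χ)) (by
      rw [← hn, Subgroup.card_eq_card_quotient_mul_card_subgroup (H6.charKer χ)]
      exact lt_mul_of_one_lt_right Nat.card_pos ((Subgroup.one_lt_card_iff_ne_bot _).2 hK))
      _ rfl ψ hψ
    refine ⟨L.comap (QuotientGroup.mk' _),
      lam.comp ((QuotientGroup.mk' _).subgroupComap L), funext fun g => ?_⟩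
    rw [← h]
    exact (H7.indFun_comap (QuotientGroup.mk' _) (QuotientGroup.mk'_surjective _) L _
      (fun _ => Iff.rfl) (fun l => (lam l : ℂ)) g).symm

variable {G : Type u} [Group G] [Fintype G]

/-- nilpotent groups are monomial -/
theorem exists_ind_hom_of_nilpotent [Group.IsNilpotent G] {χ : G → ℂ} (hχ : IsIrrCharacter G χ) :
    ∃ (H : Subgroup G) (lam : H →* ℂˣ), χ = indFun H (fun h => (lam h : ℂ)) :=
  exists_ind_hom_aux _ G rfl χ hχ

/-- integer combinations of linear characters induced from subgroups satisfying `P` -/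
def monoSpan (P : Subgroup G → Prop) : AddSubgroup (G → ℂ) :=
  AddSubgroup.closure {f | ∃ (E : Subgroup G) (μ : E →* ℂˣ), P E ∧ f = indFun E (fun t => (μ t : ℂ))}

theorem exists_list_of_mem_monoSpan {P : Subgroup G → Prop} {f : G → ℂ} (hf : f ∈ monoSpan P) :
    ∃ l : List ((E : Subgroup G) × ((E →* ℂˣ) × ℤ)), (∀ t ∈ l, P t.1) ∧
      f = (l.map fun t => (t.2.2 : ℂ) • indFun t.1 (fun e => (t.2.1 e : ℂ))).sum := by
  induction hf using AddSubgroup.closure_induction with
  | zero => exact ⟨[], by simp, by simp⟩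
  | add f g _ _ hf hg =>
    obtain ⟨l, hl, rfl⟩ := hf
    obtain ⟨l', hl', rfl⟩ := hg
    refine ⟨l ++ l', fun t ht => ?_, by simp⟩
    rcases List.mem_append.1 ht with h | h
    · exact hl t h
    · exact hl' t h
  | neg f hx hf =>
    clear hx
    obtain ⟨l, hl, rfl⟩ := hf
    refine ⟨l.map fun t => ⟨t.1, t.2.1, -t.2.2⟩, fun t ht => ?_, ?_⟩
    · obtain ⟨s, hs, rfl⟩ := List.mem_map.1 ht
      exact hl s hs
    · clear hl
      induction l with
      | nil => simp
      | cons a l ih =>
        simp only [List.map_cons, List.sum_cons, neg_add, Int.cast_neg, neg_smul] at ih ⊢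
        rw [ih]
  | mem f hf =>
    obtain ⟨E, μ, hE, rfl⟩ := hf
    exact ⟨[⟨E, μ, 1⟩], by simpa using hE, by simp⟩

theorem monoSpan_mono {P Q : Subgroup G → Prop} (h : ∀ E, P E → Q E) : monoSpan P ≤ monoSpan Q :=
  AddSubgroup.closure_mono fun _ ⟨E, μ, hE, e⟩ => ⟨E, μ, h E hE, e⟩

theorem indFun_mem_monoSpan {P : Subgroup G → Prop} {E : Subgroup G} [Group.IsNilpotent E]
    (hE : ∀ F ≤ E, P F) {ψ : E → ℂ} (hψ : IsGeneralizedCharacter E ψ) :
    indFun E ψ ∈ monoSpan P := by
  classical
  have key : ∀ ψ : E → ℂ, IsCharacter E ψ → indFun E ψ ∈ monoSpan P := fun ψ hψ => by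
    refine H6.char_induction (P := fun ψ => indFun E ψ ∈ monoSpan P) ?_ (fun χ hχ => ?_)
      (fun χ ψ h1 h2 => ?_) hψ
    · rw [H7.indFun_zero]; exact zero_mem _
    · obtain ⟨L, lam, rfl⟩ := exists_ind_hom_of_nilpotent hχ
      exact AddSubgroup.subset_closure ⟨L.map E.subtype,
        lam.comp (L.equivMapOfInjective E.subtype E.subtype_injective).symm.toMonoidHom,
        hE _ (Subgroup.map_subtype_le _), H7.indFun_indFun_map E L _⟩
    · rw [H7.indFun_add]; exact add_mem h1 h2
  obtain ⟨α, β, hα, hβ, rfl⟩ := hψ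
  rw [H7.indFun_sub]
  exact sub_mem (key _ hα) (key _ hβ)

theorem mul_mem_monoSpan {P : Subgroup G → Prop} (hP : ∀ E, P E → Group.IsNilpotent E)
    (hP' : ∀ E, P E → ∀ F ≤ E, P F) {f χ : G → ℂ} (hf : f ∈ monoSpan P)
    (hχ : IsGeneralizedCharacter G χ) : f * χ ∈ monoSpan P := by
  induction hf using AddSubgroup.closure_induction with
  | zero => rw [zero_mul]; exact zero_mem _
  | add f g _ _ hf hg => rw [add_mul]; exact add_mem hf hg
  | neg f _ hf => rw [neg_mul]; exact neg_mem hf
  | mem f hf =>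
    obtain ⟨E, μ, hE, rfl⟩ := hf
    have := hP E hE
    have h1 := H7.indFun_mul_res E (fun t => (μ t : ℂ)) (H6.gen_isClassFunction hχ)
    rw [show indFun E (fun t => (μ t : ℂ)) * χ = _ from h1.symm]
    exact indFun_mem_monoSpan (hP' E hE)
      (H6.isGen_mul (H6.char_isGen (H6.isCharacter_hom μ)) (H6.isGen_restrict E hχ))

/-- Brauer's induction theorem -/
theorem mem_monoSpan_elementary {χ : G → ℂ} (hχ : IsGeneralizedCharacter G χ) :
    χ ∈ monoSpan fun E : Subgroup G => ∃ p : ℕ, p.Prime ∧ IsElementary p E := by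
  have h1 : (fun _ : G => (1 : ℂ)) ∈
      monoSpan fun E : Subgroup G => ∃ p : ℕ, p.Prime ∧ IsElementary p E := by
    refine SetLike.le_def.1 (iSup_le fun p => ?_) (H32.one_mem_iSup_elemSpan G)
    exact monoSpan_mono (P := fun E => IsElementary p.1 E) fun E hE => ⟨p.1, p.2, hE⟩
  have h2 := mul_mem_monoSpan (fun E ⟨p, hp, hE⟩ => isNilpotent_of_isElementary hp hE)
    (fun E ⟨p, hp, hE⟩ F hF => ⟨p, hp, isElementary_of_injective hp hE (Subgroup.inclusion hF)
      (Subgroup.inclusion_injective hF)⟩) h1 hχ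
  rwa [show (fun _ : G => (1 : ℂ)) * χ = χ from one_mul χ] at h2

open Classical in
/-- `|G|` times the indicator function of the generators of `G` -/
noncomputable def genInd (G : Type u) [Group G] : G → ℂ :=
  fun x => if Subgroup.zpowers x = ⊤ then Nat.card G else 0

theorem zpowers_coe_eq_iff {G : Type u} [Group G] {B : Subgroup G} (x : B) :
    Subgroup.zpowers x = ⊤ ↔ Subgroup.zpowers (x : G) = B := by
  rw [← Subgroup.map_subtype_inj, MonoidHom.map_zpowers, ← MonoidHom.range_eq_map,
    Subgroup.range_subtype]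
  rfl

theorem sum_indFun_genInd [Fintype (Subgroup G)] :
    ∑ B : Subgroup G, indFun B (genInd B) = fun _ => (Nat.card G : ℂ) := by
  classical
  funext g
  have h1 : ∀ (B : Subgroup G) (y : G), (Nat.card B : ℂ)⁻¹ * extendByZero B (genInd B) y =
      if Subgroup.zpowers y = B then 1 else 0 := fun B y => by
    by_cases hy : y ∈ B
    · rw [H7.extendByZero_of_mem _ _ hy, genInd, zpowers_coe_eq_iff]
      split_ifs
      · exact inv_mul_cancel₀ (H7.card_ne_zero' B)
      · exact mul_zero _
    · rw [H7.extendByZero_of_not_mem _ _ hy, mul_zero, if_neg]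
      rintro rfl
      exact hy (Subgroup.mem_zpowers y)
  simp only [Finset.sum_apply, H7.indFun_apply, Finset.mul_sum, h1]
  rw [Finset.sum_comm]
  simp

theorem isGen_genInd_aux (n : ℕ) : ∀ (G : Type u) [Group G] [Fintype G], Nat.card G = n →
    IsGeneralizedCharacter G (genInd G) := by
  classical
  induction n using Nat.strong_induction_on with
  | _ n ih =>
  intro G _ _ hn
  have := Fintype.ofFinite (Subgroup G)
  have h1 := sum_indFun_genInd (G := G)
  rw [← Finset.add_sum_erase _ _ (Finset.mem_univ ⊤)] at h1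
  have h2 : indFun ⊤ (genInd (⊤ : Subgroup G)) = genInd G := by
    funext g
    rw [H7.indFun_top]
    · simp only [genInd, zpowers_coe_eq_iff, Subgroup.card_top]
    · intro x y
      simp only [genInd]
      congr 1
      refine propext ⟨fun h => ?_, fun h => ?_⟩
      · have := (MulAut.conj y⁻¹).toMonoidHom.map_zpowers (y * x * y⁻¹)
        rw [h, Subgroup.map_top_of_surjective _ (MulAut.conj y⁻¹).surjective] at this
        simpa [mul_assoc] using this.symm
      · have := (MulAut.conj y).toMonoidHom.map_zpowers x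
        rw [h, Subgroup.map_top_of_surjective _ (MulAut.conj y).surjective] at this
        simpa [mul_assoc] using this.symm
  rw [h2] at h1
  rw [eq_sub_of_add_eq h1]
  refine H6.isGen_sub ?_ (H6.isGen_sum _ fun B hB => H7.isGeneralizedCharacter_indFun B
    (ih (Nat.card B) ?_ B rfl))
  · have := H6.isGen_nsmul (Nat.card G) (H6.isGen_one (G := G))
    convert this using 1
    funext g
    simp
  · exact hn ▸ card_lt_of_ne_top (Finset.ne_of_mem_erase hB)

/-- Artin's induction theorem -/
theorem card_smul_mem_monoSpan_cyclic {χ : G → ℂ} (hχ : IsGeneralizedCharacter G χ) :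
    (Nat.card G : ℂ) • χ ∈ monoSpan fun A : Subgroup G => IsCyclic A := by
  classical
  have hP : ∀ E : Subgroup G, IsCyclic E → Group.IsNilpotent E := fun E hE => by
    letI := IsCyclic.commGroup (α := E)
    exact CommGroup.isNilpotent
  have hP' : ∀ E : Subgroup G, IsCyclic E → ∀ F ≤ E, IsCyclic F := fun E hE F hF =>
    Subgroup.isCyclic_of_le hF
  have := Fintype.ofFinite (Subgroup G)
  have h1 : (fun _ => (Nat.card G : ℂ)) ∈ monoSpan fun A : Subgroup G => IsCyclic A := by
    rw [← sum_indFun_genInd]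
    refine sum_mem fun B _ => ?_
    by_cases hB : IsCyclic B
    · have := hP B hB
      exact indFun_mem_monoSpan (hP' B hB) (isGen_genInd_aux _ B rfl)
    · have : genInd B = 0 := funext fun x => if_neg fun h =>
        hB (isCyclic_iff_exists_zpowers_eq_top.2 ⟨x, h⟩)
      rw [this, H7.indFun_zero]
      exact zero_mem _
  exact mul_mem_monoSpan hP hP' h1 hχ

end H8
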