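import Mathlib
import Cfsg.Agent.Lib.Char.Ortho

/-! Landau's theorem: the order of a finite group is bounded in terms of its class number. -/

set_option autoImplicit false
set_option linter.style.haveILetI false

universe u

namespace H31

theorem exists_bound_egyptian (k : ℕ) : ∀ r : ℚ, ∃ N : ℕ, ∀ s : Multiset ℕ, s.card ≤ k →
    (∀ n ∈ s, 0 < n) → (s.map fun n : ℕ => (n : ℚ)⁻¹).sum = r → ∀ n ∈ s, n ≤ N := by
  induction k with
  | zero =>
    intro r
    refine ⟨0, fun s hs _ _ n hn => ?_⟩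
    rw [Multiset.card_eq_zero.1 (Nat.le_zero.1 hs)] at hn
    simp at hn
  | succ k ih =>
    intro r
    choose N hN using ih
    set B : ℕ := ⌈((k + 1 : ℕ) : ℚ) / r⌉₊
    refine ⟨B + ∑ m ∈ Finset.range (B + 1), N (r - (m : ℚ)⁻¹), fun s hs hpos hsum n hn => ?_⟩
    have hr : 0 < r := by
      rw [← hsum]
      refine lt_of_lt_of_le (inv_pos.2 (by exact_mod_cast hpos n hn) : (0 : ℚ) < (n : ℚ)⁻¹)
        (Multiset.single_le_sum (fun x hx => ?_) _ (Multiset.mem_map_of_mem _ hn))
      obtain ⟨m, hm, rfl⟩ := Multiset.mem_map.1 hx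
      positivity
    obtain ⟨m, hm, hmB⟩ : ∃ m ∈ s, m ≤ B := by
      by_contra h
      push Not at h
      have h1 : (s.map fun n : ℕ => (n : ℚ)⁻¹).sum < (s.map fun _ => r / ((k + 1 : ℕ) : ℚ)).sum := by
        refine Multiset.sum_lt_sum_of_nonempty (by intro h0; rw [h0] at hn; simp at hn)
          fun x hx => ?_
        have h2 : ((k + 1 : ℕ) : ℚ) / r < x :=
          lt_of_le_of_lt (Nat.le_ceil _) (by exact_mod_cast h x hx)
        have h3 : (0 : ℚ) < ((k + 1 : ℕ) : ℚ) := by positivity
        rw [← inv_div]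
        exact inv_strictAnti₀ (div_pos h3 hr) h2
      rw [hsum, Multiset.map_const', Multiset.sum_replicate, nsmul_eq_mul] at h1
      have h3 : (0 : ℚ) < ((k + 1 : ℕ) : ℚ) := by positivity
      have h4 : (s.card : ℚ) ≤ ((k + 1 : ℕ) : ℚ) := by exact_mod_cast hs
      have h5 : (s.card : ℚ) * (r / ((k + 1 : ℕ) : ℚ)) ≤ r := by
        rw [mul_div_assoc', div_le_iff₀ h3, mul_comm]
        exact mul_le_mul_of_nonneg_left h4 hr.le
      linarith
    obtain ⟨t, rfl⟩ := Multiset.exists_cons_of_mem hm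
    rcases Multiset.mem_cons.1 hn with rfl | hn
    · exact hmB.trans (Nat.le_add_right _ _)
    · have := hN (r - (m : ℚ)⁻¹) t (by simpa using hs)
        (fun x hx => hpos x (Multiset.mem_cons_of_mem hx)) (by rw [← hsum]; simp) n hn
      refine this.trans (le_trans ?_ (Nat.le_add_left _ _))
      exact Finset.single_le_sum (f := fun m : ℕ => N (r - (m : ℚ)⁻¹)) (fun _ _ => Nat.zero_le _)
        (Finset.mem_range.2 (Nat.lt_succ_of_le hmB))

theorem card_carrier_mul {G : Type*} [Group G] [Finite G] (g : G) :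
    (ConjClasses.mk g).carrier.ncard * Nat.card (Subgroup.centralizer ({g} : Set G)) =
      Nat.card G := by
  rw [← Subgroup.index_mul_card (Subgroup.centralizer ({g} : Set G)), ← H6.card_isConj_eq_index,
    ← Nat.card_coe_set_eq]
  refine congrArg (· * _) (Nat.card_congr (Equiv.subtypeEquivRight fun x => ?_))
  rw [ConjClasses.mem_carrier_iff_mk_eq, ConjClasses.mk_eq_mk_iff_isConj, isConj_comm]

/-- **Landau's theorem**. -/
theorem landau (k : ℕ) : ∃ N : ℕ, ∀ (G : Type u) [Group G] [Finite G],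
    Nat.card (ConjClasses G) ≤ k → Nat.card G ≤ N := by
  obtain ⟨N, hN⟩ := exists_bound_egyptian k 1
  refine ⟨N, fun G _ _ hk => ?_⟩
  classical
  haveI := Fintype.ofFinite G
  haveI := Fintype.ofFinite (ConjClasses G)
  let c : ConjClasses G → ℕ := fun C => Nat.card (Subgroup.centralizer ({C.out} : Set G))
  have hc : ∀ C : ConjClasses G, C.carrier.ncard * c C = Nat.card G := by
    intro C
    have := card_carrier_mul C.out
    rwa [show ConjClasses.mk C.out = C from Quotient.out_eq C] at this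
  refine hN (Finset.univ.val.map c) (by simpa using hk) ?_ ?_ _ ?_
  · intro n hn
    obtain ⟨C, -, rfl⟩ := Multiset.mem_map.1 hn
    exact Nat.card_pos
  · rw [Multiset.map_map]
    change ∑ C, ((c C : ℕ) : ℚ)⁻¹ = 1
    have h1 := Group.sum_card_conj_classes_eq_card G
    rw [finsum_eq_sum_of_fintype] at h1
    have h2 : (Nat.card G : ℚ) ≠ 0 := by exact_mod_cast Nat.card_pos.ne'
    apply mul_left_cancel₀ h2
    rw [mul_one, Finset.mul_sum]
    conv_rhs => rw [← h1]
    push_cast
    refine Finset.sum_congr rfl fun C _ => ?_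
    have h3 : ((c C : ℕ) : ℚ) ≠ 0 := by exact_mod_cast Nat.card_pos.ne'
    rw [← hc C]; push_cast; field_simp
  · refine Multiset.mem_map.2 ⟨1, Finset.mem_univ_val _, ?_⟩
    have h1 : (1 : ConjClasses G).out = 1 := by
      have : ConjClasses.mk (1 : ConjClasses G).out = ConjClasses.mk 1 := Quotient.out_eq _
      simpa using ConjClasses.mk_eq_mk_iff_isConj.1 this
    simp only [c, h1]
    rw [Subgroup.centralizer_eq_top_iff_subset.2 (by simp), Subgroup.card_top]

theorem landau_irr (k : ℕ) : ∃ N : ℕ, ∀ (G : Type u) [Group G] [Finite G],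
    Nat.card (Cfsg.IrrCharacter G) ≤ k → Nat.card G ≤ N := by
  obtain ⟨N, hN⟩ := landau.{u} k
  exact ⟨N, fun G _ _ h => hN G (by rwa [← H6.card_irr_eq_card_conjClasses])⟩

end H31
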